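import Groth.Agent.Lib.VB17.Pair
import Groth.Agent.Lib.KS29.HomFin
import Groth.Agent.Lib.KS29.Basic
import Mathlib.LinearAlgebra.Eigenspace.Minpoly

/-!
# Simplicity of a cokernel with scalar stabiliser

Maps out of an invertible summand lift along an epimorphism when the first cohomology of the twisted kernel
vanishes; with this, endomorphisms of a cokernel come from endomorphisms of the presentation, and a scalar
translate of these is invertible.
-/

set_option autoImplicit false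
set_option linter.style.haveILetI false
set_option linter.unusedSectionVars false
set_option backward.isDefEq.respectTransparency false
set_option backward.isDefEq.respectTransparency.types false
set_option maxHeartbeats 800000

universe u

open CategoryTheory CategoryTheory.Limits AlgebraicGeometry TopologicalSpace Opposite

noncomputable section

namespace Groth.Agent.SimpleCoker11

open Groth.Agent

variable {k : Type u} [Field k] {X : Scheme.{u}} [X.Over (Spec (CommRingCat.of k))]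

include k in
/-- Sections of the middle term lift. -/
theorem exists_lift_unit {A B : X.Modules} (p : A ⟶ B)
    (hp : Function.Surjective (CurveCoh17.hmap k p 0)) (u : Coh.structureModule X ⟶ B) :
    ∃ t : Coh.structureModule X ⟶ A, t ≫ p = u := by
  obtain ⟨y, hy⟩ := hp ((CurveCoh17.hh0 B).symm (u.app ⊤ (M1.one ⊤)))
  refine ⟨M1.secHom (CurveCoh17.hh0 A y), M1.unit_hom_ext ?_⟩
  show p.app ⊤ ((M1.secHom (CurveCoh17.hh0 A y)).app ⊤ (M1.one ⊤)) = u.app ⊤ (M1.one ⊤)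
  rw [M1.secHom_app_one, ← CurveCoh17.hh0_hmap k p y, hy, AddEquiv.apply_symm_apply]

include k in
/-- Maps out of an invertible module lift. -/
theorem exists_lift {S : ShortComplex X.Modules} (hS : S.ShortExact) {L L' : X.Modules}
    (hL' : PicF.IsInvertible L') (e : CohB1.tensorMod L L' ≅ Coh.structureModule X)
    (h : Subsingleton (Coh.HH X (CohB1.tensorMod S.X₁ L') 1)) (g : L ⟶ S.X₃) :
    ∃ ψ : L ⟶ S.X₂, ψ ≫ S.g = g := by
  haveI := VB17.isEquivalence_tensorR hL'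
  have hT := CohFound.shortExact_tensor_invertible hS hL'
  obtain ⟨t, ht⟩ := exists_lift_unit (k := k) ((M2.tensorR L').map S.g)
    (fun y => (CurveCoh17.exact_hmap_hdelta k hT 0 y).1
      (Subsingleton.elim (α := Coh.HH X (CohB1.tensorMod S.X₁ L') 1) _ _)) (e.inv ≫ (M2.tensorR L').map g)
  refine ⟨(M2.tensorR L').preimage (e.hom ≫ t), (M2.tensorR L').map_injective ?_⟩
  rw [Functor.map_comp, Functor.map_preimage, Category.assoc, ht]
  erw [Iso.hom_inv_id_assoc]

include k in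
/-- Maps out of a sum of invertible modules lift. -/
theorem exists_lift_coprod {S : ShortComplex X.Modules} (hS : S.ShortExact) {L L' Q : X.Modules} {r : ℕ}
    (hL' : PicF.IsInvertible L') (e : CohB1.tensorMod L L' ≅ Coh.structureModule X)
    (eQ : Q ≅ ∐ fun _ : Fin r => L) (h : Subsingleton (Coh.HH X (CohB1.tensorMod S.X₁ L') 1)) (g : Q ⟶ S.X₃) :
    ∃ ψ : Q ⟶ S.X₂, ψ ≫ S.g = g := by
  choose ψ hψ using fun a => exists_lift (k := k) hS hL' e h (Sigma.ι (fun _ : Fin r => L) a ≫ eQ.inv ≫ g)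
  refine ⟨eQ.hom ≫ Sigma.desc ψ, ?_⟩
  rw [← cancel_epi eQ.inv, Category.assoc, Iso.inv_hom_id_assoc]
  refine Sigma.hom_ext _ _ fun a => ?_
  rw [Sigma.ι_desc_assoc, hψ]

include k in
/-- No maps between sums of invertible modules without sections between them. -/
theorem hom_eq_zero {L L' M Q R : X.Modules} {r s : ℕ} (hL' : PicF.IsInvertible L')
    (e : CohB1.tensorMod L L' ≅ Coh.structureModule X) (eQ : Q ≅ ∐ fun _ : Fin r => L)
    (eR : R ≅ ∐ fun _ : Fin s => M)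
    (h : Subsingleton (Coh.HH X (CohB1.tensorMod M L') 0)) (g : Q ⟶ R) : g = 0 := by
  haveI := VB17.isEquivalence_tensorR hL'
  have key : ∀ g' : L ⟶ M, g' = 0 := fun g' => by
    refine (M2.tensorR L').map_injective ?_
    rw [Functor.map_zero, ← cancel_epi e.inv, comp_zero]
    refine M1.unit_hom_ext ((CurveCoh17.hh0 _).symm.injective ?_)
    exact h.elim _ _
  rw [← cancel_epi eQ.inv, ← cancel_mono eR.hom, comp_zero, zero_comp]
  refine Sigma.hom_ext _ _ fun a => ?_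
  rw [comp_zero]
  have hsum := P1Split.sum_proj_ι (fun _ : Fin s => M)
  rw [← Category.comp_id (Sigma.ι (fun _ : Fin r => L) a ≫ (eQ.inv ≫ g) ≫ eR.hom), ← hsum, Preadditive.comp_sum]
  refine Finset.sum_eq_zero fun b _ => ?_
  rw [← Category.assoc]
  exact (congrArg (· ≫ Sigma.ι (fun _ : Fin s => M) b) (key _)).trans zero_comp

/-- All but finitely many scalar translates of an element of a finite algebra are units. -/
theorem finite_bad' {A : Type*} [Ring A] [Algebra k A] [Module.Finite k A] (x : A) :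
    {c : k | ¬ IsUnit (algebraMap k A c + x)}.Finite := by
  have hsub : {c : k | ¬ IsUnit (algebraMap k A c + x)} ⊆ spectrum k (LinearMap.mulLeft k (-x)) := by
    intro c hc hu
    refine hc ?_
    have hb := (Module.End.isUnit_iff _).1 hu
    have happ : ∀ y, (algebraMap k (Module.End k A) c - LinearMap.mulLeft k (-x)) y =
        (algebraMap k A c + x) * y := fun y => by
      rw [LinearMap.sub_apply, Module.algebraMap_end_apply, LinearMap.mulLeft_apply, Algebra.smul_def, add_mul,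
        neg_mul, sub_neg_eq_add]
    obtain ⟨y, hy⟩ := hb.2 1
    rw [happ] at hy
    refine ⟨⟨_, y, hy, hb.1 ?_⟩, rfl⟩
    rw [happ, happ, ← mul_assoc, hy, one_mul, mul_one]
  exact (Module.End.finite_spectrum _).subset hsub

/-- All but finitely many scalar translates of an endomorphism are invertible. -/
theorem finite_bad [IsProper (X ↘ Spec (CommRingCat.of k))] {M : X.Modules} (hM : Coh.IsCoh M)
    (x : M ⟶ M) : {c : k | ¬ IsIso (c • 𝟙 M + x)}.Finite := by
  haveI : Module.Finite k (End M) := KS29.finite_hom (k := k) hM hM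
  refine (finite_bad' (k := k) (show End M from x)).subset fun c hc hu => hc ?_
  have := (isUnit_iff_isIso _).1 hu
  rwa [Algebra.algebraMap_eq_smul_one] at this

/-- A cokernel with scalar stabiliser is simple. -/
theorem simple [IsAlgClosed k] [IsProper (X ↘ Spec (CommRingCat.of k))] {P Q₁ Q₂ : X.Modules}
    (hP : Coh.IsCoh P) (h₁ : Coh.IsCoh Q₁) (h₂ : Coh.IsCoh Q₂) (f : P ⟶ Q₁ ⊞ Q₂) [Mono f]
    (hl₁ : ∀ g : Q₁ ⟶ cokernel f, ∃ ψ, ψ ≫ cokernel.π f = g)
    (hl₂ : ∀ g : Q₂ ⟶ cokernel f, ∃ ψ, ψ ≫ cokernel.π f = g)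
    (h₁₂ : ∀ g : Q₁ ⟶ Q₂, g = 0) (h₂₁ : ∀ g : Q₂ ⟶ Q₁, g = 0)
    (hstab : ∀ (β₁ : Q₁ ≅ Q₁) (β₂ : Q₂ ≅ Q₂) (γ : P ≅ P), γ.hom ≫ f = f ≫ biprod.map β₁.hom β₂.hom →
      ∃ c : k, β₁.hom = c • 𝟙 Q₁ ∧ β₂.hom = c • 𝟙 Q₂)
    (φ : cokernel f ⟶ cokernel f) : ∃ c : k, φ = c • 𝟙 (cokernel f) := by
  obtain ⟨ψ₁, hψ₁⟩ := hl₁ (biprod.inl ≫ cokernel.π f ≫ φ)
  obtain ⟨ψ₂, hψ₂⟩ := hl₂ (biprod.inr ≫ cokernel.π f ≫ φ)
  let β₁ : Q₁ ⟶ Q₁ := ψ₁ ≫ biprod.fst
  let β₂ : Q₂ ⟶ Q₂ := ψ₂ ≫ biprod.snd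
  let B : Q₁ ⊞ Q₂ ⟶ Q₁ ⊞ Q₂ := biprod.map β₁ β₂
  have hd₁ : ψ₁ = (biprod.inl : Q₁ ⟶ Q₁ ⊞ Q₂) ≫ B := by
    refine biprod.hom_ext _ _ ?_ ?_
    · simp [B, β₁]
    · rw [h₁₂ (ψ₁ ≫ biprod.snd)]; simp [B]
  have hd₂ : ψ₂ = (biprod.inr : Q₂ ⟶ Q₁ ⊞ Q₂) ≫ B := by
    refine biprod.hom_ext _ _ ?_ ?_
    · rw [h₂₁ (ψ₂ ≫ biprod.fst)]; simp [B]
    · simp [B, β₂]
  have hB : B ≫ cokernel.π f = cokernel.π f ≫ φ := by
    refine biprod.hom_ext' _ _ ?_ ?_
    · rw [← Category.assoc, ← hd₁, hψ₁]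
    · rw [← Category.assoc, ← hd₂, hψ₂]
  have h0 : (f ≫ B) ≫ cokernel.π f = 0 := by rw [Category.assoc, hB, cokernel.condition_assoc, zero_comp]
  let γ : P ⟶ P := Abelian.monoLift f (f ≫ B) h0
  have hγ : (γ : P ⟶ P) ≫ f = f ≫ B := Abelian.monoLift_comp f _ h0
  obtain ⟨c, hc⟩ := (Set.Infinite.exists_notMem_finite (Set.infinite_univ (α := k))
    (((finite_bad (k := k) h₁ β₁).union (finite_bad (k := k) h₂ β₂)).union (finite_bad (k := k) hP γ))).imp fun _ h => h.2
  simp only [Set.mem_union, Set.mem_setOf_eq, not_or, not_not] at hc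
  obtain ⟨⟨hu₁, hu₂⟩, hu⟩ := hc
  haveI := hu₁
  haveI := hu₂
  haveI := hu
  obtain ⟨d, hd⟩ := hstab (asIso (c • 𝟙 Q₁ + β₁)) (asIso (c • 𝟙 Q₂ + β₂)) (asIso (c • 𝟙 P + γ)) (by
      simp only [asIso_hom]
      rw [Preadditive.add_comp, hγ, Linear.smul_comp, Category.id_comp]
      refine biprod.hom_ext _ _ ?_ ?_
      · simp [B, Preadditive.comp_add, Linear.comp_smul]
      · simp [B, Preadditive.comp_add, Linear.comp_smul])
  obtain ⟨hd₁', hd₂'⟩ := hd
  refine ⟨d - c, ?_⟩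
  have e₁ : (β₁ : Q₁ ⟶ Q₁) = (d - c) • 𝟙 Q₁ := by
    have := hd₁'
    simp only [asIso_hom] at this
    rw [sub_smul, ← this, add_sub_cancel_left]
  have e₂ : (β₂ : Q₂ ⟶ Q₂) = (d - c) • 𝟙 Q₂ := by
    have := hd₂'
    simp only [asIso_hom] at this
    rw [sub_smul, ← this, add_sub_cancel_left]
  rw [← cancel_epi (cokernel.π f), ← hB, Linear.comp_smul, Category.comp_id]
  have hBc : B = (d - c) • 𝟙 (Q₁ ⊞ Q₂) := by
    show biprod.map (β₁ : Q₁ ⟶ Q₁) (β₂ : Q₂ ⟶ Q₂) = _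
    rw [e₁, e₂]
    refine biprod.hom_ext _ _ ?_ ?_ <;> simp [Linear.comp_smul, Linear.smul_comp]
  rw [hBc, Linear.smul_comp, Category.id_comp]

/-- The scalar as a map of sheaves. -/
theorem toSheaf_smul_id (M : X.Modules) (c : k) :
    (SheafOfModules.toSheaf X.ringCatSheaf).map (c • 𝟙 M) =
      Coh.smulAb M (Coh.toGlobal (X ↘ Spec (CommRingCat.of k)) c) := by
  rw [KLin.smul_id]
  rfl

end Groth.Agent.SimpleCoker11

end
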